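import Mathlib.Tactic
import Mathlib.Data.Complex.Basic

/-!
# The degree equation in the principal block
-/

set_option autoImplicit false

namespace CfsgLib.InvChar.KleinSimple

/-- One negative degree: no solutions. -/
theorem one_neg (u v n : ℤ) (hu : 1 ≤ u) (huv : u ≤ v)
    (he : n * ((4 * u + 1) * (4 * v + 1) * (4 * u + 4 * v + 3) + (4 * v + 1) * (4 * u + 4 * v + 3) +
      (4 * u + 1) * (4 * u + 4 * v + 3) - (4 * u + 1) * (4 * v + 1)) =
      8 * ((4 * u + 1) * (4 * v + 1) * (4 * u + 4 * v + 3))) : False := by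
  set b := 4 * u + 1 with hb
  set c := 4 * v + 1 with hc
  have ha : 4 * u + 4 * v + 3 = b + c + 1 := by omega
  rw [ha] at he
  have hb5 : 5 ≤ b := by omega
  have hbc : b ≤ c := by omega
  set T := b + c + 1 with hT
  have hTpos : 0 < T := by omega
  have hcT : 0 < c * T := mul_pos (by omega) hTpos
  have hbT : 0 < b * T := mul_pos (by omega) hTpos
  have h2 : 0 < b * c * T := mul_pos (mul_pos (by omega) (by omega)) hTpos
  have hP : 0 < c * T + b * T - b * c := by
    have : 0 < c * (c + 1) := mul_pos (by omega) (by omega)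
    have e : c * T = b * c + c * (c + 1) := by rw [hT]; ring
    linarith
  have hn8 : n < 8 := by
    by_contra h
    nlinarith [mul_le_mul_of_nonneg_right (not_lt.1 h)
      (show (0:ℤ) ≤ b * c * T + c * T + b * T - b * c by linarith)]
  have hu4 : u ≤ 3 := by
    by_contra h
    have hb15 : 15 ≤ b := by omega
    have h3 : 7 * (c * T + b * T - b * c) < b * c * T := by
      have e1 : b * T ≤ c * T := mul_le_mul_of_nonneg_right hbc hTpos.le
      have e2 : 15 * (c * T) ≤ b * (c * T) := mul_le_mul_of_nonneg_right hb15 hcT.le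
      have e3 : b * (c * T) = b * c * T := by ring
      have e4 : 0 < b * c := mul_pos (by omega) (by omega)
      linarith
    nlinarith [mul_le_mul_of_nonneg_right (show n ≤ 7 by omega)
      (show (0:ℤ) ≤ b * c * T + c * T + b * T - b * c by linarith)]
  have hn0 : 0 < n := by
    by_contra h
    nlinarith [mul_le_mul_of_nonneg_right (not_lt.1 h)
      (show (0:ℤ) ≤ b * c * T + c * T + b * T - b * c by linarith)]
  have hv : v ≤ 30 := by
    by_contra h
    interval_cases u <;> simp only [hb, hT] at * <;> norm_num at * <;> interval_cases n <;> nlinarith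
  interval_cases u <;> interval_cases v <;> simp only [hb, hc, hT] at * <;> norm_num at * <;> omega

/-- Two negative degrees: no solutions. -/
theorem two_neg (u v n : ℤ) (hu : 1 ≤ u) (huv : u ≤ v)
    (he : n * ((4 * u + 3) * (4 * v + 3) * (4 * u + 4 * v + 5) + (4 * u + 3) * (4 * v + 3) -
      (4 * v + 3) * (4 * u + 4 * v + 5) - (4 * u + 3) * (4 * u + 4 * v + 5)) =
      8 * ((4 * u + 3) * (4 * v + 3) * (4 * u + 4 * v + 5))) : False := by
  set b := 4 * u + 3 with hb
  set c := 4 * v + 3 with hc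
  have ha : 4 * u + 4 * v + 5 = b + c - 1 := by omega
  rw [ha] at he
  have hb7 : 7 ≤ b := by omega
  have hbc : b ≤ c := by omega
  set T := b + c - 1 with hT
  have hTpos : 0 < T := by omega
  have hcT : 0 < c * T := mul_pos (by omega) hTpos
  have hbT : 0 < b * T := mul_pos (by omega) hTpos
  have h2 : 0 < b * c * T := mul_pos (mul_pos (by omega) (by omega)) hTpos
  have hbc0 : 0 < b * c := mul_pos (by omega) (by omega)
  have e1 : b * T ≤ c * T := mul_le_mul_of_nonneg_right hbc hTpos.le
  have e3 : b * (c * T) = b * c * T := by ring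
  have e5 : 7 * (c * T) ≤ b * (c * T) := mul_le_mul_of_nonneg_right hb7 hcT.le
  have hlt : b * c < c * T + b * T := by
    have : c * b ≤ c * T := mul_le_mul_of_nonneg_left (by omega) (by omega)
    nlinarith
  have hn9 : 9 ≤ n := by
    by_contra h
    nlinarith [mul_le_mul_of_nonneg_right (show n ≤ 8 by omega)
      (show (0:ℤ) ≤ b * c * T + b * c - c * T - b * T by linarith)]
  have hn11 : n ≤ 11 := by
    by_contra h
    nlinarith [mul_le_mul_of_nonneg_right (show 12 ≤ n by omega)
      (show (0:ℤ) ≤ b * c * T + b * c - c * T - b * T by linarith)]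
  have hu4 : u ≤ 4 := by
    by_contra h
    have e2 : 19 * (c * T) ≤ b * (c * T) :=
      mul_le_mul_of_nonneg_right (show 19 ≤ b by omega) hcT.le
    nlinarith [mul_le_mul_of_nonneg_right hn9
      (show (0:ℤ) ≤ b * c * T + b * c - c * T - b * T by linarith)]
  have hv : v ≤ 30 := by
    by_contra h
    interval_cases u <;> simp only [hb, hT] at * <;> norm_num at * <;> interval_cases n <;> nlinarith
  interval_cases u <;> interval_cases v <;> simp only [hb, hc, hT] at * <;> norm_num at * <;> omega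

/-- Some degree is three with sign `-1`. -/
theorem exists_three (a : Fin 4 → ℕ) (s : Fin 4 → ℤ) (ha0 : a 0 = 1) (hs0 : s 0 = 1)
    (hs : ∀ i, s i * s i = 1) (hodd : ∀ i, ¬ 2 ∣ a i)
    (hmod : ∀ i, (4 : ℤ) ∣ (a i : ℤ) - s i) (hne : ∀ i, i ≠ 0 → a i ≠ 1)
    (hsum : ∑ i, s i * (a i : ℤ) = 0) (n : ℕ)
    (hn : (n : ℂ) * ∑ i, (s i : ℂ) / (a i : ℂ) = 8) : ∃ i, s i = -1 ∧ a i = 3 := by
  by_contra! hno
  have hpos : ∀ i, 0 < a i := fun i => Nat.pos_of_ne_zero fun h => hodd i (h ▸ dvd_zero 2)
  -- signed degrees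
  set b : Fin 4 → ℤ := fun i => s i * (a i : ℤ) with hb
  have hbm : ∀ i, (4 : ℤ) ∣ b i - 1 := fun i => by
    obtain ⟨k, hk⟩ := hmod i
    exact ⟨s i * k, by simp only [hb]; linear_combination s i * hk + hs i⟩
  have hbge : ∀ i, i ≠ 0 → 5 ≤ b i ∨ b i ≤ -7 := by
    intro i hi
    have h1 := hbm i
    rcases Int.eq_one_or_neg_one_of_mul_eq_one (hs i) with e | e
    · left
      simp only [hb, e, one_mul] at h1 ⊢
      have := hne i hi
      have := hpos i
      omega
    · right
      simp only [hb, e, neg_one_mul] at h1 ⊢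
      have := hno i e
      have := hpos i
      omega
  have hbne : ∀ i, (b i : ℂ) ≠ 0 := fun i => by
    rw [Int.cast_ne_zero]
    simp only [hb]
    exact mul_ne_zero (fun h => by simpa [h] using hs i) (by exact_mod_cast (hpos i).ne')
  have hterm : ∀ i, (s i : ℂ) / (a i : ℂ) = 1 / (b i : ℂ) := fun i => by
    have : (a i : ℂ) ≠ 0 := Nat.cast_ne_zero.2 (hpos i).ne'
    have h2 : (s i : ℂ) * s i = 1 := by exact_mod_cast hs i
    rw [eq_div_iff (hbne i)]
    simp only [hb]; push_cast; field_simp; linear_combination h2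
  simp only [hterm, Fin.sum_univ_four] at hn
  simp only [Fin.sum_univ_four] at hsum
  have hb0 : b 0 = 1 := by simp [hb, ha0, hs0]
  rw [hb0] at hn
  have hbs : b 0 + b 1 + b 2 + b 3 = 0 := hsum
  rw [hb0] at hbs
  have he : (n : ℤ) * (b 1 * b 2 * b 3 + b 2 * b 3 + b 1 * b 3 + b 1 * b 2) =
      8 * (b 1 * b 2 * b 3) := by
    have h1 := hbne 1; have h2 := hbne 2; have h3 := hbne 3
    have : ((n : ℤ) : ℂ) * ((b 1 : ℂ) * b 2 * b 3 + b 2 * b 3 + b 1 * b 3 + b 1 * b 2) =
        8 * ((b 1 : ℂ) * b 2 * b 3) := by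
      field_simp at hn
      push_cast at hn ⊢
      linear_combination hn
    exact_mod_cast this
  -- the two shapes
  have case1 : ∀ x y z : ℤ, (4:ℤ) ∣ x - 1 → (4:ℤ) ∣ y - 1 → 5 ≤ x → 5 ≤ y → 1 + x + y + z = 0 →
      (n : ℤ) * (x * y * z + y * z + x * z + x * y) = 8 * (x * y * z) → False := by
    rintro x y z ⟨u, hu⟩ ⟨v, hv⟩ hx hy hz h
    obtain rfl : x = 4 * u + 1 := by omega
    obtain rfl : y = 4 * v + 1 := by omega
    obtain rfl : z = -(4 * u + 4 * v + 3) := by omega
    rcases le_total u v with h' | h'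
    · exact one_neg u v n (by omega) h' (by linear_combination -h)
    · exact one_neg v u n (by omega) h' (by linear_combination -h)
  have case2 : ∀ x y z : ℤ, (4:ℤ) ∣ x - 1 → (4:ℤ) ∣ y - 1 → x ≤ -7 → y ≤ -7 → 1 + x + y + z = 0 →
      (n : ℤ) * (x * y * z + y * z + x * z + x * y) = 8 * (x * y * z) → False := by
    rintro x y z ⟨u, hu⟩ ⟨v, hv⟩ hx hy hz h
    obtain ⟨u', rfl⟩ : ∃ u', u = -u' - 1 := ⟨-u - 1, by ring⟩
    obtain ⟨v', rfl⟩ : ∃ v', v = -v' - 1 := ⟨-v - 1, by ring⟩
    obtain rfl : x = -(4 * u' + 3) := by omega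
    obtain rfl : y = -(4 * v' + 3) := by omega
    obtain rfl : z = 4 * u' + 4 * v' + 5 := by omega
    rcases le_total u' v' with h' | h'
    · exact two_neg u' v' n (by omega) h' (by linear_combination h)
    · exact two_neg v' u' n (by omega) h' (by linear_combination h)
  rcases hbge 1 (by decide) with h1 | h1 <;> rcases hbge 2 (by decide) with h2 | h2 <;>
    rcases hbge 3 (by decide) with h3 | h3
  · omega
  · exact case1 (b 1) (b 2) (b 3) (hbm 1) (hbm 2) h1 h2 (by omega) (by linear_combination he)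
  · exact case1 (b 1) (b 3) (b 2) (hbm 1) (hbm 3) h1 h3 (by omega) (by linear_combination he)
  · exact case2 (b 2) (b 3) (b 1) (hbm 2) (hbm 3) h2 h3 (by omega) (by linear_combination he)
  · exact case1 (b 2) (b 3) (b 1) (hbm 2) (hbm 3) h2 h3 (by omega) (by linear_combination he)
  · exact case2 (b 1) (b 3) (b 2) (hbm 1) (hbm 3) h1 h3 (by omega) (by linear_combination he)
  · exact case2 (b 1) (b 2) (b 3) (hbm 1) (hbm 2) h1 h2 (by omega) (by linear_combination he)
  · omega

end CfsgLib.InvChar.KleinSimple
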