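import Cfsg.Agent.Lib.InvChar.KleinSimple.Sylow
import Cfsg.Agent.Lib.InvChar.KleinSimple.Degrees
import Cfsg.Agent.Lib.InvChar.PairsFormula
import Cfsg.Agent.Lib.InvChar.ElemFour
import Cfsg.Agent.Lib.Invol.KleinPrincipal
import Cfsg.Agent.Lib.BlockReg.Integral

/-!
# Simple groups with a normal Klein four Sylow subgroup in an involution centralizer
-/

set_option autoImplicit false

open scoped ComplexConjugate

namespace CfsgLib.InvChar.KleinSimple

universe u

variable {G : Type u} [Group G] [Finite G]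

/-- All involutions are conjugate. -/
theorem one_class [IsSimpleGroup G] (P : Sylow 2 G) (hP : IsKleinFour (P : Subgroup G)) :
    ∀ s t : G, orderOf s = 2 → orderOf t = 2 → IsConj s t := by
  haveI := hP
  haveI : Fact (Nat.Prime 2) := ⟨Nat.prime_two⟩
  rcases CfsgLib.Invol.klein_sylow_dichotomy P hP with ⟨hN, -⟩ | ⟨-, h1⟩
  · exfalso
    obtain ⟨a, b, hab⟩ := exists_noncomm (P : Subgroup G) IsKleinFour.card_four
    have hidx : (MonoidHom.transferSylow P hN).ker.index = 4 := by
      rw [(MonoidHom.ker_transferSylow_isComplement' P hN).symm.index_eq_card, IsKleinFour.card_four]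
    rcases (MonoidHom.normal_ker (MonoidHom.transferSylow P hN)).eq_bot_or_eq_top with h | h
    · rw [h, Subgroup.index_bot] at hidx
      exact hab ((IsPGroup.commGroupOfCardEqPrimeSq (p := 2) (G := G)
        (by rw [hidx]; norm_num)).mul_comm a b)
    · rw [h, Subgroup.index_top] at hidx; omega
  · intro s t hs ht
    rw [Nat.card_eq_one_iff_unique] at h1
    exact ConjClasses.mk_eq_mk_iff_isConj.1 (congrArg Subtype.val
      (h1.1.elim ⟨_, s, hs, rfl⟩ ⟨_, t, ht, rfl⟩))

/-- A degree three character with value `-1` on the involutions forces a small centralizer. -/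
theorem eq_one_of_degree_three [IsSimpleGroup G] {x : G} (hx : orderOf x = 2) (S₀ : Subgroup G)
    (h4 : Nat.card S₀ = 4) (hxS : x ∈ S₀) (hS2 : ∀ v ∈ S₀, v ≠ 1 → orderOf v = 2)
    (χ : Cfsg.IrrCharacter G) (h3 : Cfsg.charDegree (χ : G → ℂ) = 3)
    (hval : ∀ v : G, orderOf v = 2 → (χ : G → ℂ) v = -1) {y : G}
    (hy : ∀ v ∈ S₀, v ≠ 1 → (χ : G → ℂ) (v * y) = -1) : y = 1 := by
  classical
  cases nonempty_fintype G
  have hdeg := CfsgLib.Blk83.one_eq χ
  rw [h3] at hdeg
  obtain ⟨f, n, ρ, hirr, rfl⟩ := χ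
  change ρ.character 1 = _ at hdeg
  change ∀ v : G, orderOf v = 2 → ρ.character v = -1 at hval
  change ∀ v ∈ S₀, v ≠ 1 → ρ.character (v * y) = -1 at hy
  have hn : n = 3 := by
    rw [ρ.char_one, Module.finrank_fin_fun] at hdeg
    exact_mod_cast hdeg
  subst hn
  let σ : Representation ℂ S₀ (Fin 3 → ℂ) := ρ.comp S₀.subtype
  have hsum3 : ∀ f : S₀ → ℂ, (∀ v : S₀, v ≠ 1 → f v = -1) → ∑ v, f v = f 1 - 3 := by
    intro f hf
    rw [← Finset.add_sum_erase Finset.univ f (Finset.mem_univ 1),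
      Finset.sum_congr rfl (g := fun _ => (-1 : ℂ)) (fun v hv => hf v (Finset.ne_of_mem_erase hv)),
      Finset.sum_const, Finset.card_erase_of_mem (Finset.mem_univ _), Finset.card_univ,
      ← Nat.card_eq_fintype_card, h4]
    norm_num
    ring
  have hne : ∀ v : S₀, v ≠ 1 → (v : G) ≠ 1 := fun v hv h => hv (Subtype.ext h)
  haveI : Invertible (Nat.card S₀ : ℂ) := invertibleOfNonzero (by rw [h4]; norm_num)
  have hinv0 : Module.finrank ℂ (Representation.invariants σ) = 0 := by
    have h := Representation.card_inv_mul_sum_char_eq_finrank σ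
    rw [hsum3 σ.character (fun v hv => hval _ (hS2 v v.2 (hne v hv))), σ.char_one,
      Module.finrank_fin_fun, Nat.cast_ofNat, sub_self, mul_zero] at h
    exact_mod_cast h.symm
  rw [Submodule.finrank_eq_zero] at hinv0
  have hE : ∑ v : S₀, ρ (v : G) = 0 := by
    refine LinearMap.ext fun w => ?_
    have hm : (∑ v : S₀, ρ (v : G)) w ∈ Representation.invariants σ := by
      intro g
      show ρ (g : G) ((∑ v : S₀, ρ (v : G)) w) = _
      simp only [LinearMap.sum_apply, map_sum]
      refine Fintype.sum_equiv (Equiv.mulLeft g) _ _ fun v => ?_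
      simp [← Module.End.mul_apply, ← map_mul]
    rw [hinv0, Submodule.mem_bot] at hm
    rw [hm, LinearMap.zero_apply]
  have htr : ∑ v : S₀, ρ.character ((v : G) * y) = 0 := by
    have h := congrArg (fun E => LinearMap.trace ℂ (Fin 3 → ℂ) (E * ρ y)) hE
    simp only [Finset.sum_mul, ← map_mul, map_sum, zero_mul, map_zero] at h
    exact h
  rw [hsum3 _ (fun v hv => hy v v.2 (hne v hv)), OneMemClass.coe_one, one_mul, sub_eq_zero] at htr
  have hker : y ∈ MonoidHom.ker ρ := by
    rw [MonoidHom.mem_ker]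
    exact (Char.character_eq_degree_iff ρ _).1 (by rw [htr, Module.finrank_fin_fun]; norm_num)
  rcases (MonoidHom.normal_ker ρ).eq_bot_or_eq_top with h | h
  · rw [h] at hker; exact hker
  · exfalso
    have hxk : x ∈ MonoidHom.ker ρ := h ▸ Subgroup.mem_top x
    rw [MonoidHom.mem_ker] at hxk
    have := hval x hx
    rw [Representation.character, hxk, LinearMap.trace_one, Module.finrank_fin_fun] at this
    norm_num at this

theorem main [IsSimpleGroup G] (x : G) (hx : orderOf x = 2)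
    (S₀ : Subgroup G) (hle : S₀ ≤ Subgroup.centralizer ({x} : Set G)) (hK : IsKleinFour ↥S₀)
    (hodd : ¬ 2 ∣ S₀.relIndex (Subgroup.centralizer ({x} : Set G)))
    (hn : (S₀.subgroupOf (Subgroup.centralizer ({x} : Set G))).Normal) :
    Nonempty (G ≃* alternatingGroup (Fin 5)) := by
  classical
  haveI : Fact (Nat.Prime 2) := ⟨Nat.prime_two⟩
  haveI := hK
  cases nonempty_fintype G
  have h4 : Nat.card S₀ = 4 := IsKleinFour.card_four
  obtain ⟨S, hS⟩ := (IsPGroup.of_card (G := S₀) (p := 2) (n := 2) (by rw [h4]; norm_num)).exists_le_sylow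
  have hS4 := card_sylow x hx S₀ hle hK hodd hn S hS
  have hSe : (S : Subgroup G) = S₀ :=
    (Subgroup.eq_of_le_of_card_ge hS (by rw [hS4, h4])).symm
  have hP : IsKleinFour (S : Subgroup G) := hSe ▸ hK
  have hone := one_class S hP
  have hC2 : ∀ g, g * x = x * g → (∃ k : ℕ, orderOf g = 2 ^ k) → g ∈ S₀ := fun g hg h2 =>
    mem_of_two_element hle hn hodd (Subgroup.mem_centralizer_singleton_iff.2 hg) h2
  have hxS₀ : x ∈ S₀ := hC2 x rfl ⟨1, by rw [pow_one, hx]⟩
  have hS2 : ∀ v ∈ S₀, v ≠ 1 → orderOf v = 2 := fun v hv h1 =>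
    CfsgLib.Invol.orderOf_eq_two h1
      (congrArg Subtype.val (IsKleinFour.mul_self (⟨v, hv⟩ : S₀)))
  obtain ⟨M, hM⟩ := CfsgLib.BlockReg.exists_isPModular Nat.prime_two
  obtain ⟨ρ, s, hinj, hρ0, hρB, hs0, hs2, hsval, hdodd, hcol, -⟩ :=
    CfsgLib.Invol.KleinBlock.exists_four S hP hone hM
  set C := Subgroup.centralizer ({x} : Set G) with hC
  obtain ⟨N, hN, hNodd, hNidx⟩ : ∃ N : Subgroup C, N.Normal ∧ ¬ 2 ∣ Nat.card N ∧ N.index = 2 ^ 2 :=
    CfsgLib.Invol.KleinBlock.exists_complement S hP hx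
  have hNord : ∀ y : C, y ∈ N → ¬ 2 ∣ orderOf (y : G) := fun y hy h => by
    rw [Subgroup.orderOf_coe] at h
    exact hNodd (h.trans (by rw [← Subgroup.orderOf_mk y hy]; exact orderOf_dvd_natCard _))
  have hxy : ∀ y : C, Commute x (y : G) := fun y =>
    (Subgroup.mem_centralizer_singleton_iff.1 y.2).symm
  -- elements of `N` commute with `S₀`
  have hNS : ∀ v ∈ S₀, ∀ y : C, y ∈ N → Commute v (y : G) := by
    intro v hv y hy
    have hdisj : Disjoint (S₀.subgroupOf C) N := by
      rw [disjoint_iff]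
      apply Subgroup.inf_eq_bot_of_coprime
      rw [Nat.card_congr (Subgroup.subgroupOfEquivOfLe hle).toEquiv, h4]
      exact ((Nat.Prime.coprime_iff_not_dvd Nat.prime_two).2 hNodd).pow_left 2
    exact congrArg Subtype.val
      (Subgroup.commute_of_normal_of_disjoint _ _ hn hN hdisj ⟨v, hle hv⟩ y hv hy)
  have hval : ∀ i (v : G), orderOf v = 2 → ∀ y : G, Commute v y → ¬ 2 ∣ orderOf y →
      (ρ i : G → ℂ) (v * y) = (s i : ℂ) := fun i v hv y hc hy => by
    rw [CfsgLib.Invol.KleinBlock.apply_singular S hP hM ((hρB _).2 ⟨i, rfl⟩) hv hc hy, hsval i v hv]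
  -- characters outside the principal block sum to zero over `x N`
  have hout : ∀ χ : Cfsg.IrrCharacter G, χ ∉ CfsgLib.Invol.BlockCol.pBlock M G →
      ∑ y : N, (χ : G → ℂ) (x * ((y : C) : G)) = 0 := by
    intro χ hχ
    set θ : C → ℂ := fun c => (χ : G → ℂ) (x * (c : G)) with hθ
    have h0 := CfsgLib.Invol.BlockCol.blockPart_translate hM ⟨1, by rw [pow_one, hx]⟩ χ (1 : C)
      (by rw [orderOf_one]; norm_num)
    rw [if_neg hχ] at h0
    set f : C → ℂ := fun g => if g ∈ N then (N.index : ℂ) else 0 with hf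
    have hfcl : Cfsg.IsClassFunction C f := fun g c =>
      if_congr ⟨fun h => by simpa [mul_assoc] using hN.conj_mem _ h c⁻¹,
        fun h => hN.conj_mem _ h c⟩ rfl rfl
    -- expansion of `f`
    have hinner : ∀ ψ : Cfsg.IrrCharacter C, Cfsg.classInner f (ψ : C → ℂ) =
        if ψ ∈ CfsgLib.Invol.BlockCol.pBlock M C then conj ((ψ : C → ℂ) 1) else 0 := by
      intro ψ
      have hG : (Nat.card C : ℂ) ≠ 0 := Nat.cast_ne_zero.2 Nat.card_pos.ne'
      have h0 : ∑ g : C, f g * conj ((ψ : C → ℂ) g) =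
          (N.index : ℂ) * conj (∑ n : N, (ψ : C → ℂ) (1 * (n : C))) := by
        simp only [hf, ite_mul, zero_mul, ← Finset.sum_filter, map_sum, Finset.mul_sum, one_mul]
        rw [Finset.sum_subtype (Finset.univ.filter fun g : C => g ∈ N) (p := (· ∈ N))
          (fun g => by simp) (fun g => (N.index : ℂ) * conj ((ψ : C → ℂ) g))]
      rw [Cfsg.classInner, h0]
      split_ifs with hψ
      · rw [CfsgLib.Invol.BlockCol.mem_pBlock,
          CfsgLib.Invol.BlockCol.mem_principalBlock_iff_trivial hM N hNodd hNidx] at hψ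
        rw [Finset.sum_congr rfl (g := fun _ => (ψ : C → ℂ) 1) (fun n _ => by
          rw [one_mul]; exact hψ n n.2), Finset.sum_const, Finset.card_univ, nsmul_eq_mul, map_mul,
          map_natCast, ← Nat.card_eq_fintype_card, ← mul_assoc (N.index : ℂ), ← Nat.cast_mul,
          N.index_mul_card, inv_mul_cancel_left₀ hG]
      · rw [CfsgLib.Invol.BlockCol.mem_pBlock,
          CfsgLib.Invol.BlockCol.mem_principalBlock_iff_trivial hM N hNodd hNidx] at hψ
        rw [CfsgLib.Blk83.sum_coset_eq_zero ψ N hψ 1, map_zero, mul_zero, mul_zero]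
    have h11 : ∀ ψ : Cfsg.IrrCharacter C, conj ((ψ : C → ℂ) 1) = (ψ : C → ℂ) 1 := fun ψ => by
      rw [← Char.IsIrrCharacter.apply_inv ψ.2, inv_one]
    have hfeq := CfsgLib.Char.IsClassFunction.eq_sum_classInner hfcl
    simp only [hinner, ite_smul, zero_smul, Finset.sum_ite_mem, Finset.univ_inter] at hfeq
    have h1 : ∑ c : C, θ c * conj (f c) = 0 := by
      rw [hfeq]
      simp only [Finset.sum_apply, Pi.smul_apply, smul_eq_mul, map_sum, Finset.mul_sum]
      rw [Finset.sum_comm]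
      unfold Cfsg.blockPart at h0
      rw [CfsgLib.Invol.BlockCol.finsum_principal] at h0
      have h2 := congrArg (fun z => (Nat.card C : ℂ) * z) h0
      simp only [mul_zero, Finset.mul_sum, Cfsg.classInner] at h2
      rw [← h2]
      refine Finset.sum_congr rfl fun ψ _ => ?_
      rw [← Finset.mul_sum, mul_assoc (_⁻¹ : ℂ)]
      erw [mul_inv_cancel_left₀ (Nat.cast_ne_zero.2 Nat.card_pos.ne')]
      rw [Finset.sum_mul]
      refine Finset.sum_congr (Finset.ext fun c => iff_of_true (Finset.mem_univ c) (@Finset.mem_univ _ (_) c)) fun c _ => ?_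
      rw [map_mul, Complex.conj_conj]
      ring
    simp only [hf, apply_ite, map_natCast, map_zero, mul_ite, mul_zero, ← Finset.sum_filter] at h1
    rw [Finset.sum_subtype (Finset.univ.filter fun g : C => g ∈ N) (p := (· ∈ N))
      (fun g => by simp) (fun g => θ g * (N.index : ℂ)), ← Finset.sum_mul, mul_eq_zero] at h1
    exact h1.resolve_right (by rw [hNidx]; norm_num)
  -- pairs
  have hpairs1 : BSW.pairs x = 2 := by
    have hxx : x * x = 1 := CfsgLib.Invol.mul_self_eq_one hx
    have hiff : ∀ p : G, (orderOf p = 2 ∧ orderOf (p * x) = 2) ↔ p ∈ S₀ ∧ p ≠ 1 ∧ p ≠ x := by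
      intro p
      constructor
      · rintro ⟨hp, hpx⟩
        have h1 := CfsgLib.Invol.mul_self_eq_one hp
        have h2 := CfsgLib.Invol.mul_self_eq_one hpx
        have hc : p * x = x * p := by
          rw [← inv_eq_of_mul_eq_one_left h2, mul_inv_rev, inv_eq_of_mul_eq_one_left h1,
            inv_eq_of_mul_eq_one_left hxx]
        refine ⟨hC2 p hc ⟨1, by rw [pow_one, hp]⟩, fun h => ?_, fun h => ?_⟩
        · rw [h, orderOf_one] at hp; omega
        · rw [h, hxx, orderOf_one] at hpx; omega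
      · rintro ⟨hp, hp1, hpx⟩
        refine ⟨hS2 p hp hp1, hS2 _ (S₀.mul_mem hp hxS₀) fun h => hpx ?_⟩
        rw [eq_inv_of_mul_eq_one_left h, inv_eq_of_mul_eq_one_left hxx]
    let e : {p : G × G // orderOf p.1 = 2 ∧ orderOf p.2 = 2 ∧ p.1 * p.2 = x} ≃
        {p : G // orderOf p = 2 ∧ orderOf (p * x) = 2} :=
      { toFun := fun p => ⟨p.1.1, p.2.1, by
          have h1 : p.1.1 * x = p.1.2 := by
            calc p.1.1 * x = p.1.1 * (p.1.1 * p.1.2) := congrArg _ p.2.2.2.symm
              _ = p.1.2 := by rw [← mul_assoc, CfsgLib.Invol.mul_self_eq_one p.2.1, one_mul]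
          rw [h1]; exact p.2.2.1⟩
        invFun := fun p => ⟨(p.1, p.1 * x), p.2.1, p.2.2, by
          rw [← mul_assoc, CfsgLib.Invol.mul_self_eq_one p.2.1, one_mul]⟩
        left_inv := fun p => by
          have := CfsgLib.Invol.mul_self_eq_one p.2.1
          refine Subtype.ext (Prod.ext (Eq.refl p.1.1) ?_)
          show p.1.1 * x = p.1.2
          calc p.1.1 * x = p.1.1 * (p.1.1 * p.1.2) := congrArg _ p.2.2.2.symm
            _ = p.1.2 := by rw [← mul_assoc, this, one_mul]
        right_inv := fun p => rfl }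
    rw [BSW.pairs, Nat.card_congr e,
      Nat.card_congr (Equiv.subtypeEquivRight hiff), Nat.card_eq_fintype_card, Fintype.card_subtype]
    have hfil : (Finset.univ.filter fun p : G => p ∈ S₀ ∧ p ≠ 1 ∧ p ≠ x) =
        ((Finset.univ.filter fun p : G => p ∈ S₀).erase 1).erase x := by
      ext p; simp only [Finset.mem_filter, Finset.mem_univ, true_and, Finset.mem_erase]; tauto
    have hc : (Finset.univ.filter fun p : G => p ∈ S₀).card = 4 := by
      rw [← h4, Nat.card_eq_fintype_card, Fintype.card_subtype]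
    have hx1 : x ≠ 1 := fun h => by rw [h, orderOf_one] at hx; omega
    rw [hfil, Finset.card_erase_of_mem (Finset.mem_erase.2 ⟨hx1, by simpa using hxS₀⟩),
      Finset.card_erase_of_mem (by simp), hc]
  have hpairs0 : ∀ y : C, y ∈ N → y ≠ 1 → BSW.pairs (x * (y : G)) = 0 := by
    intro y hy hy1
    rw [BSW.pairs, Nat.card_eq_zero]
    refine Or.inl ⟨fun ⟨⟨p, q⟩, hp, hq, hpq⟩ => hy1 (Subtype.ext ?_)⟩
    change p * q = x * (y : G) at hpq
    set g := x * (y : G) with hg
    have hp1 := CfsgLib.Invol.mul_self_eq_one hp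
    have hq1 := CfsgLib.Invol.mul_self_eq_one hq
    have hinvg : p * g * p⁻¹ = g⁻¹ := by
      rw [← hpq, mul_inv_rev, inv_eq_of_mul_eq_one_left hq1, inv_eq_of_mul_eq_one_left hp1,
        ← mul_assoc p p q, hp1, one_mul]
    have hm : g ^ orderOf (y : G) = x := by
      rw [hg, (hxy y).mul_pow, pow_orderOf_eq_one, mul_one]
      obtain ⟨k, hk⟩ := Nat.odd_iff.2 (Nat.two_dvd_ne_zero.1 (hNord y hy))
      rw [hk, pow_succ, pow_mul, ← hx, pow_orderOf_eq_one, one_pow, one_mul]
    have hcx : p * x = x * p := by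
      have h1 : p * x * p⁻¹ = x⁻¹ := by
        rw [← hm, ← conj_pow, hinvg, inv_pow]
      rw [inv_eq_of_mul_eq_one_left (CfsgLib.Invol.mul_self_eq_one hx)] at h1
      exact mul_inv_eq_iff_eq_mul.1 h1
    have hpS : p ∈ S₀ := hC2 p hcx ⟨1, by rw [pow_one, hp]⟩
    have hcg : Commute p g := (Commute.mul_right hcx (hNS p hpS y hy))
    rw [hcg.eq, mul_inv_cancel_right] at hinvg
    have hg2 : g ^ 2 = 1 := by rw [sq, ← inv_mul_cancel g]; nth_rewrite 1 [hinvg]; rfl
    rw [hg, (hxy y).mul_pow, sq x, CfsgLib.Invol.mul_self_eq_one hx, one_mul] at hg2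
    have hd : orderOf (y : G) ∣ 2 := orderOf_dvd_of_pow_eq_one hg2
    rcases (Nat.dvd_prime Nat.prime_two).1 hd with h | h
    · exact orderOf_eq_one_iff.1 h
    · exact absurd (h ▸ dvd_rfl) (hNord y hy)
  -- the class equation
  set nI := Nat.card {v : G // orderOf v = 2} with hnI
  have hcardC : Nat.card C = 4 * Nat.card N := by rw [← N.index_mul_card, hNidx]; norm_num
  have hcardG : Nat.card G = nI * (4 * Nat.card N) := by
    rw [← hcardC, ← CfsgLib.Char.card_isConj_mul_card_centralizer x]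
    congr 1
    exact Nat.card_congr (Equiv.subtypeEquivRight fun v =>
      ⟨fun h => by obtain ⟨c, hc⟩ := isConj_iff.1 h; rw [← hc, CfsgLib.Invol.orderOf_conj, hx],
        fun h => hone x v hx h⟩)
  have hpos : ∀ i, 0 < Cfsg.charDegree (ρ i : G → ℂ) := fun i => CfsgLib.Blk83.deg_pos _
  have hx1 : ∀ i, (ρ i : G → ℂ) x = (s i : ℂ) := fun i => hsval i x hx
  have hkey : (nI : ℂ) * ∑ i, (s i : ℂ) / (Cfsg.charDegree (ρ i : G → ℂ) : ℂ) = 8 := by
    have h := Finset.sum_congr (Eq.refl (Finset.univ : Finset N))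
      fun y _ => PairsFormula.card_mul_pairs x (fun v hv => hone x v hx hv) (x * ((y : C) : G))
    rw [Finset.sum_eq_single (1 : N) (fun y _ hy => by
        rw [hpairs0 y y.2 (fun h => hy (Subtype.ext h)), Nat.cast_zero, mul_zero]) (by simp),
      OneMemClass.coe_one, OneMemClass.coe_one, mul_one, hpairs1, ← Finset.mul_sum,
      Finset.sum_comm] at h
    have hterm : ∀ ξ : Cfsg.IrrCharacter G, ∑ y : N, (ξ : G → ℂ) x * (ξ : G → ℂ) x *
        conj ((ξ : G → ℂ) (x * ((y : C) : G))) / (ξ : G → ℂ) 1 =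
        (ξ : G → ℂ) x * (ξ : G → ℂ) x * conj (∑ y : N, (ξ : G → ℂ) (x * ((y : C) : G))) /
          (ξ : G → ℂ) 1 := fun ξ => by
      rw [← Finset.sum_div, map_sum, Finset.mul_sum]
    simp only [hterm] at h
    rw [← Finset.sum_subset (Finset.subset_univ (Finset.univ.image ρ)) (fun ξ _ hξ => by
        rw [hout ξ (fun hm => hξ (by
          obtain ⟨i, hi⟩ := (hρB ξ).1 hm
          exact Finset.mem_image.2 ⟨i, Finset.mem_univ i, hi⟩)), map_zero, mul_zero, zero_div]),
      Finset.sum_image (fun a _ b _ e => hinj e)] at h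
    have hterm2 : ∀ i, (ρ i : G → ℂ) x * (ρ i : G → ℂ) x *
        conj (∑ y : N, (ρ i : G → ℂ) (x * ((y : C) : G))) / (ρ i : G → ℂ) 1 =
        (Nat.card N : ℂ) * ((s i : ℂ) / (Cfsg.charDegree (ρ i : G → ℂ) : ℂ)) := by
      intro i
      rw [Finset.sum_congr rfl (g := fun _ => (s i : ℂ))
        (fun y _ => hval i x hx _ (hxy _) (hNord _ y.2)), Finset.sum_const, Finset.card_univ,
        nsmul_eq_mul, map_mul, map_natCast, map_intCast, hx1, CfsgLib.Blk83.one_eq,
        ← Nat.card_eq_fintype_card,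
        show (s i : ℂ) * (s i : ℂ) = 1 by exact_mod_cast hs2 i]
      ring
    simp only [hterm2, ← Finset.mul_sum] at h
    rw [hcardG, ← hnI] at h
    push_cast at h
    have hn0 : (nI : ℂ) ≠ 0 := by
      haveI : Nonempty {v : G // orderOf v = 2} := ⟨⟨x, hx⟩⟩
      exact Nat.cast_ne_zero.2 Nat.card_pos.ne'
    refine mul_left_cancel₀ (mul_ne_zero hn0 (Nat.cast_ne_zero.2 (Nat.card_pos (α := N)).ne' :
      (Nat.card N : ℂ) ≠ 0)) ?_
    linear_combination -h
  -- a character of degree three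
  have hmod : ∀ i, (4 : ℤ) ∣ (Cfsg.charDegree (ρ i : G → ℂ) : ℤ) - s i := by
    intro i
    obtain ⟨m, hm⟩ := CfsgLib.Blk83.exists_nat_sum_eq (ρ i) S₀
    rw [← Finset.add_sum_erase Finset.univ _ (Finset.mem_univ (1 : S₀)),
      Finset.sum_congr rfl (g := fun _ => (s i : ℂ)) (fun (v : S₀) hv => hsval i (v : G) (hS2 (v : G) v.2
        (fun h => Finset.ne_of_mem_erase hv (Subtype.ext h)))),
      Finset.sum_const, Finset.card_erase_of_mem (Finset.mem_univ _), Finset.card_univ,
      ← Nat.card_eq_fintype_card, h4, nsmul_eq_mul, OneMemClass.coe_one,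
      CfsgLib.Blk83.one_eq] at hm
    have h' : (Cfsg.charDegree (ρ i : G → ℂ) : ℤ) + 3 * s i = 4 * (m : ℤ) := by
      apply Int.cast_injective (α := ℂ)
      push_cast at hm ⊢
      linear_combination hm
    exact ⟨(m : ℤ) - s i, by linear_combination h'⟩
  have hne1 : ∀ i, i ≠ 0 → Cfsg.charDegree (ρ i : G → ℂ) ≠ 1 := by
    intro i hi h1
    obtain ⟨φ, hφ⟩ := CfsgLib.Char.IsCharacter.exists_linear
      (CfsgLib.Char.IsIrrCharacter.isCharacter (ρ i).2)
      (by rw [CfsgLib.Blk83.one_eq, h1, Nat.cast_one])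
    obtain ⟨a, b, hab⟩ := exists_noncomm S₀ h4
    have htop : φ.ker = ⊤ := by
      rcases (MonoidHom.normal_ker φ).eq_bot_or_eq_top with h | h
      · exact absurd ((MonoidHom.ker_eq_bot_iff φ).1 h
          (by rw [map_mul, map_mul, mul_comm])) hab
      · exact h
    apply hi
    apply hinj
    rw [hρ0]
    apply Subtype.ext
    funext g
    have hg : g ∈ φ.ker := htop ▸ Subgroup.mem_top g
    rw [MonoidHom.mem_ker] at hg
    rw [hφ g, hg, Units.val_one]
    rfl
  obtain ⟨i, hsi, hai⟩ := exists_three (fun i => Cfsg.charDegree (ρ i : G → ℂ)) s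
    (by
      have := CfsgLib.Blk83.one_eq (ρ 0)
      rw [hρ0] at this ⊢
      rw [CfsgLib.Char.principalIrr_apply] at this
      exact_mod_cast this.symm)
    hs0 hs2 hdodd hmod hne1
    (by
      have h := hcol 1 (by rw [orderOf_one]; norm_num)
      simp only [CfsgLib.Blk83.one_eq] at h
      exact_mod_cast h) nI hkey
  -- the centralizer is the four group
  have hN1 : ∀ y : C, y ∈ N → y = 1 := fun y hy => Subtype.ext
    (eq_one_of_degree_three hx S₀ h4 hxS₀ hS2 (ρ i) hai
      (fun v hv => by rw [hsval i v hv, hsi]; norm_num)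
      (fun v hv hv1 => by
        rw [hval i v (hS2 v hv hv1) _ (hNS v hv y hy) (hNord y hy), hsi]; norm_num))
  have hC4 : Nat.card C = 4 := by
    rw [hcardC]
    have : N = ⊥ := (Subgroup.eq_bot_iff_forall _).2 hN1
    rw [this, Subgroup.card_bot]
  have hCS : C = S₀ := (Subgroup.eq_of_le_of_card_ge hle (by rw [hC4, h4])).symm
  refine ElemFour.main x hx hC4 (fun c hc => ?_) ?_ ?_
  · have hc' : c ∈ S₀ := hCS ▸ hc
    rw [sq]
    exact congrArg Subtype.val (IsKleinFour.mul_self (⟨c, hc'⟩ : S₀))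
  · rintro ⟨P, K, hKn, hKc⟩
    have hP4 : Nat.card (P : Subgroup G) = 4 := by
      rw [Nat.card_congr (Sylow.equiv P S).toEquiv, hS4]
    have hidx : K.index = 4 := by rw [hKc.symm.index_eq_card, hP4]
    obtain ⟨a, b, hab⟩ := exists_noncomm S₀ h4
    rcases hKn.eq_bot_or_eq_top with h | h
    · rw [h, Subgroup.index_bot] at hidx
      exact hab ((IsPGroup.commGroupOfCardEqPrimeSq (p := 2) (G := G)
        (by rw [hidx]; norm_num)).mul_comm a b)
    · rw [h, Subgroup.index_top] at hidx; omega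
  · intro E hE _
    obtain ⟨a, b, hab⟩ := exists_noncomm S₀ h4
    have hd : Nat.card S₀ ∣ Nat.card G := Subgroup.card_subgroup_dvd_card S₀
    rw [h4] at hd
    rcases hE.eq_bot_or_eq_top with h | h
    · rw [h, Subgroup.card_bot]; omega
    · rw [h, Subgroup.card_top]
      refine ⟨fun h2 => ?_, fun h2 => ?_⟩
      · rw [h2] at hd; omega
      · exact hab ((IsPGroup.commGroupOfCardEqPrimeSq (p := 2) (G := G)
          (by rw [h2]; norm_num)).mul_comm a b)

end CfsgLib.InvChar.KleinSimple
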