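import Cfsg.Agent.Lib.Fusion.ThompsonTransfer
import Cfsg.Agent.Lib.Transfer.PGroup
import Cfsg.Agent.Lib.Invol.KleinSylow
import Mathlib.GroupTheory.Sylow
import Mathlib.GroupTheory.Abelianization.Defs

/-!
# A normal Klein four Sylow subgroup of an involution centralizer in a simple group
-/

set_option autoImplicit false

namespace CfsgLib.InvChar.KleinSimple

variable {G : Type*} [Group G] [Finite G]

/-- A 2-element of a group with a normal subgroup of odd index lies in that subgroup. -/
theorem mem_of_two_element {H K : Subgroup G} (hKH : K ≤ H) (hn : (K.subgroupOf H).Normal)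
    (hodd : ¬ 2 ∣ K.relIndex H) {g : G} (hg : g ∈ H) (h2 : ∃ k : ℕ, orderOf g = 2 ^ k) : g ∈ K := by
  obtain ⟨k, hk⟩ := h2
  have h1 : (⟨g, hg⟩ : H) ^ K.relIndex H ∈ K.subgroupOf H := (K.subgroupOf H).pow_index_mem _
  rw [Subgroup.mem_subgroupOf] at h1
  simp only [SubgroupClass.coe_pow] at h1
  obtain ⟨m, hm⟩ := exists_pow_eq_self_of_coprime (x := g) (n := K.relIndex H)
    (by rw [hk]; exact (((Nat.Prime.coprime_iff_not_dvd Nat.prime_two).2 hodd).pow_left k).symm)
  rw [← hm]
  exact K.pow_mem h1 m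

/-- A simple group with a subgroup of order four is not commutative. -/
theorem exists_noncomm [IsSimpleGroup G] (S₀ : Subgroup G) (h4 : Nat.card S₀ = 4) :
    ∃ a b : G, a * b ≠ b * a := by
  by_contra! hab
  letI : CommGroup G := { ‹Group G› with mul_comm := hab }
  have hp : (Nat.card G).Prime := IsSimpleGroup.prime_card
  have hd : Nat.card S₀ ∣ Nat.card G := Subgroup.card_subgroup_dvd_card S₀
  rw [h4] at hd
  rcases (Nat.dvd_prime hp).1 hd with h | h
  · omega
  · rw [← h] at hp; exact absurd hp (by decide)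

theorem no_index_two [IsSimpleGroup G] (S₀ : Subgroup G) (h4 : Nat.card S₀ = 4)
    (M : Subgroup G) (hM : M.Normal) : M.index ≠ 2 := by
  intro h
  rcases hM.eq_bot_or_eq_top with h' | h'
  · rw [h', Subgroup.index_bot] at h
    have hd : Nat.card S₀ ∣ Nat.card G := Subgroup.card_subgroup_dvd_card S₀
    rw [h4, h] at hd
    omega
  · rw [h', Subgroup.index_top] at h; omega

/-- The Klein four group is a Sylow subgroup of the whole group. -/
theorem card_sylow [IsSimpleGroup G] (x : G) (hx : orderOf x = 2)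
    (S₀ : Subgroup G) (hle : S₀ ≤ Subgroup.centralizer ({x} : Set G)) (hK : IsKleinFour ↥S₀)
    (hodd : ¬ 2 ∣ S₀.relIndex (Subgroup.centralizer ({x} : Set G)))
    (hn : (S₀.subgroupOf (Subgroup.centralizer ({x} : Set G))).Normal)
    (S : Sylow 2 G) (hS : S₀ ≤ (S : Subgroup G)) : Nat.card (S : Subgroup G) = 4 := by
  classical
  haveI : Fact (Nat.Prime 2) := ⟨Nat.prime_two⟩
  haveI := hK
  have h4 : Nat.card S₀ = 4 := IsKleinFour.card_four
  by_contra hne
  have hxx : x * x = 1 := by rw [← sq, ← hx, pow_orderOf_eq_one]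
  have hinv : x⁻¹ = x := inv_eq_of_mul_eq_one_left hxx
  have hx1 : x ≠ 1 := fun h => by rw [h, orderOf_one] at hx; omega
  have hxC : x ∈ Subgroup.centralizer ({x} : Set G) := Subgroup.mem_centralizer_singleton_iff.2 rfl
  have hC2 : ∀ g, g * x = x * g → (∃ k : ℕ, orderOf g = 2 ^ k) → g ∈ S₀ := fun g hg h2 =>
    mem_of_two_element hle hn hodd (Subgroup.mem_centralizer_singleton_iff.2 hg) h2
  have hxS₀ : x ∈ S₀ := hC2 x rfl ⟨1, by rw [pow_one, hx]⟩
  haveI hnilS : Group.IsNilpotent ↥(S : Subgroup G) := S.isPGroup'.isNilpotent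
  set X : ↥(S : Subgroup G) := ⟨x, hS hxS₀⟩ with hX
  have hord : ∀ c : ↥(S : Subgroup G), ∃ k : ℕ, orderOf (c : G) = 2 ^ k := fun c => by
    obtain ⟨k, hk⟩ := IsPGroup.iff_orderOf.1 S.isPGroup' c
    exact ⟨k, by rw [Subgroup.orderOf_coe, hk]⟩
  -- centralizers inside `S`
  have hcentX : Nat.card (Subgroup.centralizer ({X} : Set ↥(S : Subgroup G))) = 4 := by
    rw [← h4]
    refine Nat.card_congr
      { toFun := fun c => ⟨((c : ↥(S : Subgroup G)) : G), hC2 _ ?_ (hord _)⟩
        invFun := fun c => ⟨⟨(c : G), hS c.2⟩, ?_⟩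
        left_inv := fun c => rfl
        right_inv := fun c => rfl }
    · exact congrArg Subtype.val (Subgroup.mem_centralizer_singleton_iff.1 c.2)
    · exact Subgroup.mem_centralizer_singleton_iff.2
        (Subtype.ext (Subgroup.mem_centralizer_singleton_iff.1 (hle c.2)))
  have hcentW : ∀ w : ↥(S : Subgroup G), IsConj x (w : G) →
      Nat.card (Subgroup.centralizer ({w} : Set ↥(S : Subgroup G))) ≤ 4 := by
    intro w hw
    obtain ⟨g, hg⟩ := isConj_iff.1 hw
    rw [← h4]
    refine Nat.card_le_card_of_injective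
      (fun c => (⟨g⁻¹ * ((c : ↥(S : Subgroup G)) : G) * g, hC2 _ ?_ ?_⟩ : S₀)) ?_
    · have h := congrArg Subtype.val (Subgroup.mem_centralizer_singleton_iff.1 c.2)
      simp only [Subgroup.coe_mul] at h
      rw [← hg] at h
      calc g⁻¹ * ((c : ↥(S : Subgroup G)) : G) * g * x
          = g⁻¹ * (((c : ↥(S : Subgroup G)) : G) * (g * x * g⁻¹)) * g := by group
        _ = g⁻¹ * (g * x * g⁻¹ * ((c : ↥(S : Subgroup G)) : G)) * g := by rw [h]
        _ = x * (g⁻¹ * ((c : ↥(S : Subgroup G)) : G) * g) := by group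
    · obtain ⟨k, hk⟩ := hord (c : ↥(S : Subgroup G))
      refine ⟨k, ?_⟩
      rw [← hk]
      have := orderOf_injective (MulAut.conj g⁻¹).toMonoidHom (MulAut.conj g⁻¹).injective
        ((c : ↥(S : Subgroup G)) : G)
      simpa using this
    · intro c d h
      have := congrArg Subtype.val h
      exact Subtype.ext (Subtype.ext (mul_left_cancel (mul_right_cancel this)))
  -- the abelianized quotient
  set D : Subgroup ↥(S : Subgroup G) := commutator ↥(S : Subgroup G) with hD
  let q : ↥(S : Subgroup G) →* ↥(S : Subgroup G) ⧸ D := QuotientGroup.mk' D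
  have hqcomm : ∀ a b : ↥(S : Subgroup G) ⧸ D, a * b = b * a := fun a b =>
    (Abelianization.commGroup (↥(S : Subgroup G))).mul_comm a b
  have hqD : ∀ c : ↥(S : Subgroup G), q c = 1 ↔ c ∈ D := fun c => QuotientGroup.eq_one_iff c
  have hqconj : ∀ c u : ↥(S : Subgroup G), q (c * u * c⁻¹) = q u := fun c u => by
    rw [map_mul, map_mul, map_inv, hqcomm (q c), mul_inv_cancel_right]
  have hfib : ∀ u : ↥(S : Subgroup G),
      Nat.card {v : ↥(S : Subgroup G) // q v = q u} = Nat.card D := by
    intro u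
    refine Nat.card_congr ((Equiv.mulLeft u⁻¹).subtypeEquiv fun v => ?_)
    rw [Equiv.coe_mulLeft, ← hqD, map_mul, map_inv, inv_mul_eq_one, eq_comm]
  let orb : ∀ u : ↥(S : Subgroup G), {v // IsConj u v} → {v : ↥(S : Subgroup G) // q v = q u} :=
    fun u v => ⟨v.1, by obtain ⟨c, hc⟩ := isConj_iff.1 v.2; rw [← hc, hqconj]⟩
  have horb_inj : ∀ u, Function.Injective (orb u) := fun u a b h =>
    Subtype.ext (congrArg Subtype.val h :)
  have horb : ∀ u : ↥(S : Subgroup G),
      Nat.card {v // IsConj u v} * Nat.card (Subgroup.centralizer ({u} : Set ↥(S : Subgroup G))) =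
        Nat.card D * D.index := fun u => by
    rw [D.card_mul_index, Subgroup.nat_card_centralizer_nat_card_stabilizer]
    have hstab := Nat.card_congr
      (MulAction.orbitProdStabilizerEquivGroup (ConjAct ↥(S : Subgroup G)) u)
    rw [Nat.card_prod] at hstab
    have e : Nat.card {v // IsConj u v} = Nat.card (MulAction.orbit (ConjAct ↥(S : Subgroup G)) u) :=
      Nat.card_congr (Equiv.subtypeEquivRight fun v => by rw [ConjAct.mem_orbit_conjAct, isConj_comm])
    rw [e]
    exact hstab
  have hidx4 : D.index ≤ 4 := by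
    have h1 := horb X
    have h2 := Nat.card_le_card_of_injective _ (horb_inj X)
    rw [hfib] at h2
    rw [hcentX] at h1
    nlinarith [Nat.card_pos (α := D)]
  have hSne : Nat.card (S : Subgroup G) ≠ 4 := hne
  have hncyc : ∀ a : ↥(S : Subgroup G), Subgroup.zpowers a ≠ ⊤ := by
    intro a ha
    have hXc : Subgroup.centralizer ({X} : Set ↥(S : Subgroup G)) = ⊤ := by
      rw [eq_top_iff]
      intro c _
      rw [Subgroup.mem_centralizer_singleton_iff]
      obtain ⟨i, hi⟩ := Subgroup.mem_zpowers_iff.1 (ha ▸ Subgroup.mem_top c : c ∈ Subgroup.zpowers a)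
      obtain ⟨j, hj⟩ := Subgroup.mem_zpowers_iff.1 (ha ▸ Subgroup.mem_top X : X ∈ Subgroup.zpowers a)
      rw [← hi, ← hj, ← zpow_add, ← zpow_add, add_comm]
    rw [hXc, Subgroup.card_top] at hcentX
    exact hSne hcentX
  have hgen : ∀ a : ↥(S : Subgroup G), Subgroup.zpowers (q a) ≠ ⊤ := by
    intro a ha
    refine hncyc a (CfsgLib.Transfer.eq_top_of_sup_commutator ?_)
    rw [eq_top_iff]
    intro c _
    obtain ⟨i, hi⟩ := Subgroup.mem_zpowers_iff.1 (ha ▸ Subgroup.mem_top (q c) : q c ∈ _)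
    have hm : (a ^ i)⁻¹ * c ∈ D := by rw [← hqD, map_mul, map_inv, map_zpow, hi, inv_mul_cancel]
    have := Subgroup.mul_mem_sup (Subgroup.zpow_mem_zpowers a i) hm
    rwa [mul_inv_cancel_left] at this
  have hidx : D.index = 4 := by
    obtain ⟨k, hk⟩ := IsPGroup.iff_card.1 (S.isPGroup'.to_quotient D)
    rw [← Subgroup.index_eq_card] at hk
    rcases Nat.lt_or_ge k 2 with hk2 | hk2
    · exfalso
      obtain ⟨a, ha⟩ : ∃ a : ↥(S : Subgroup G) ⧸ D, Subgroup.zpowers a = ⊤ := by
        interval_cases k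
        · refine ⟨1, ?_⟩
          rw [Subgroup.index_eq_card] at hk
          haveI := (Nat.card_eq_one_iff_unique.1 hk).1
          exact Subsingleton.elim _ _
        · rw [Subgroup.index_eq_card] at hk
          haveI := isCyclic_of_prime_card hk
          exact ⟨_, (IsCyclic.exists_generator (α := ↥(S : Subgroup G) ⧸ D)).choose_spec |>
            fun h => eq_top_iff.2 fun c _ => h c⟩
      obtain ⟨b, rfl⟩ := QuotientGroup.mk'_surjective D a
      exact hgen b ha
    · have : (4 : ℕ) ≤ 2 ^ k :=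
        le_trans (le_of_eq (by norm_num)) (Nat.pow_le_pow_right (by norm_num : 0 < 2) hk2)
      omega
  have hcardS : Nat.card ↥(S : Subgroup G) = Nat.card D * 4 := by rw [← hidx, D.card_mul_index]
  have hquot : Nat.card (↥(S : Subgroup G) ⧸ D) = 4 := by rw [← Subgroup.index_eq_card, hidx]
  have hqsq : ∀ a : ↥(S : Subgroup G) ⧸ D, a * a = 1 := by
    intro a
    obtain ⟨b, rfl⟩ := QuotientGroup.mk'_surjective D a
    have hd : orderOf (q b) ∣ 4 := hquot ▸ orderOf_dvd_natCard _
    have hn4 : orderOf (q b) ≠ 4 := fun h => hgen b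
      (Subgroup.eq_top_of_card_eq _ (by rw [Nat.card_zpowers, h, hquot]))
    rw [← pow_two, ← orderOf_dvd_iff_pow_eq_one]
    have := Nat.le_of_dvd (by norm_num) hd
    change orderOf (q b) ∣ 2
    interval_cases (orderOf (q b)) <;> norm_num at *
  -- classes of involutions with small centralizer fill cosets
  have hfill : ∀ u : ↥(S : Subgroup G),
      Nat.card (Subgroup.centralizer ({u} : Set ↥(S : Subgroup G))) ≤ 4 →
      ∀ c ∈ D, IsConj u (u * c) := by
    intro u hu c hc
    have h1 := horb u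
    rw [hidx] at h1
    have h2 : Nat.card {v : ↥(S : Subgroup G) // q v = q u} ≤ Nat.card {v // IsConj u v} := by
      rw [hfib]; nlinarith
    obtain ⟨v, hv⟩ := ((horb_inj u).bijective_of_nat_card_le h2).2
      ⟨u * c, by rw [map_mul, (hqD c).2 hc, mul_one]⟩
    have := congrArg Subtype.val hv
    simp only [orb] at this
    exact this ▸ v.2
  have hnotD : ∀ u : ↥(S : Subgroup G), u ≠ 1 →
      Nat.card (Subgroup.centralizer ({u} : Set ↥(S : Subgroup G))) ≤ 4 → q u ≠ 1 := by
    intro u hu hc h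
    have h1 := hfill u hc u⁻¹ (D.inv_mem ((hqD u).1 h))
    rw [mul_inv_cancel] at h1
    exact hu (isConj_one_left.1 h1)
  have hinverts : ∀ u : ↥(S : Subgroup G), u * u = 1 →
      Nat.card (Subgroup.centralizer ({u} : Set ↥(S : Subgroup G))) ≤ 4 →
      ∀ c ∈ D, u * c * u = c⁻¹ := by
    intro u hu hcu c hc
    obtain ⟨g, hg⟩ := isConj_iff.1 (hfill u hcu c hc)
    have : u * c * (u * c) = 1 := by
      rw [← hg]
      calc g * u * g⁻¹ * (g * u * g⁻¹) = g * (u * u) * g⁻¹ := by group
        _ = 1 := by rw [hu]; group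
    apply eq_inv_of_mul_eq_one_left
    simpa [mul_assoc] using this
  have hX1 : X ≠ 1 := fun h => hx1 (congrArg Subtype.val h)
  have hXX : X * X = 1 := Subtype.ext hxx
  have hqX : q X ≠ 1 := hnotD X hX1 hcentX.le
  -- involutions conjugate to `x` in the cosets avoiding `x`
  have hfind : ∀ a : ↥(S : Subgroup G), q a ≠ 1 → q a ≠ q X →
      ∃ w : ↥(S : Subgroup G), q w = q a ∧ w * w = 1 ∧
        Nat.card (Subgroup.centralizer ({w} : Set ↥(S : Subgroup G))) ≤ 4 := by
    intro a ha haX
    set Q' : Subgroup ↥(S : Subgroup G) := (Subgroup.zpowers (q a)).comap q with hQ'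
    have hz : Nat.card (Subgroup.zpowers (q a)) = 2 := by
      rw [Nat.card_zpowers]; exact orderOf_eq_prime (by rw [sq]; exact hqsq _) ha
    have hidxQ : Q'.index = 2 := by
      rw [hQ', Subgroup.index_comap_of_surjective _ (QuotientGroup.mk'_surjective D)]
      have := (Subgroup.zpowers (q a)).card_mul_index
      rw [hz, hquot] at this
      omega
    set Q : Subgroup G := Q'.map (S : Subgroup G).subtype with hQ
    have hrel : Q.relIndex (S : Subgroup G) = 2 := by
      rw [Subgroup.relIndex, hQ,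
        Subgroup.subgroupOf, Subgroup.comap_map_eq_self_of_injective
          (Subgroup.subtype_injective _), hidxQ]
    obtain ⟨g, hg⟩ : ∃ g : G, g * x * g⁻¹ ∈ Q := by
      by_contra! hno
      have hPi : Odd (S : Subgroup G).index :=
        Nat.not_even_iff_odd.1 fun h => S.not_dvd_index (even_iff_two_dvd.1 h)
      obtain ⟨M, hM, hM2, -⟩ := CfsgLib.ThompsonTransfer.exists_normal_index_two _ Q hPi hrel x
        (by rw [sq, hxx]) hno
      exact no_index_two S₀ h4 M hM hM2
    obtain ⟨w, hw, hwe⟩ := hg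
    have hwc : IsConj x (w : G) := isConj_iff.2 ⟨g, hwe.symm⟩
    have hw1 : w ≠ 1 := fun h => by
      rw [h] at hwc
      exact hx1 (isConj_one_left.1 hwc)
    have hwq : q w ∈ Subgroup.zpowers (q a) := hw
    refine ⟨w, ?_, Subtype.ext ?_, hcentW w hwc⟩
    · obtain ⟨i, hi⟩ := Subgroup.mem_zpowers_iff.1 hwq
      have h2 : q a ^ (2 : ℤ) = 1 := by rw [zpow_two]; exact hqsq _
      rcases Int.even_or_odd i with ⟨j, rfl⟩ | ⟨j, rfl⟩
      · refine absurd ?_ (hnotD w hw1 (hcentW w hwc))
        rw [← hi, ← two_mul, zpow_mul, h2, one_zpow]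
      · rw [← hi, zpow_add_one, zpow_mul, h2, one_zpow, one_mul]
    · show (w : G) * w = 1
      change (S : Subgroup G).subtype w = g * x * g⁻¹ at hwe
      rw [Subgroup.coe_subtype] at hwe
      rw [hwe]
      calc g * x * g⁻¹ * (g * x * g⁻¹) = g * (x * x) * g⁻¹ := by group
        _ = 1 := by rw [hxx]; group
  obtain ⟨a, ha, haX⟩ : ∃ a : ↥(S : Subgroup G), q a ≠ 1 ∧ q a ≠ q X := by
    have hne2 : (Subgroup.zpowers (q X)) ≠ ⊤ := hgen X
    obtain ⟨b, hb⟩ : ∃ b, b ∉ Subgroup.zpowers (q X) := by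
      by_contra! h
      exact hne2 (eq_top_iff.2 fun b _ => h b)
    obtain ⟨a, rfl⟩ := QuotientGroup.mk'_surjective D b
    exact ⟨a, fun h => hb (h ▸ one_mem _), fun h => hb (h ▸ Subgroup.mem_zpowers _)⟩
  obtain ⟨w, hwa, hww, hwcent⟩ := hfind a ha haX
  have hqw : q w ≠ 1 := hwa ▸ ha
  have hqwX : q w ≠ q X := hwa ▸ haX
  obtain ⟨w', hw'q, hw'w', hw'cent⟩ := hfind (X * w)
    (fun h => hqwX (by
      rw [map_mul] at h
      exact (inv_eq_of_mul_eq_one_right h).symm.trans (inv_eq_of_mul_eq_one_left (hqsq _))))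
    (fun h => hqw (by rw [map_mul] at h; exact mul_eq_left.1 h))
  set d := (X * w)⁻¹ * w' with hd
  have hdD : d ∈ D := by rw [← hqD, hd, map_mul, map_inv, hw'q, inv_mul_cancel]
  have hw'e : w' = X * w * d := by rw [hd, mul_inv_cancel_left]
  have hiX := hinverts X hXX hcentX.le
  have hiw := hinverts w hww hwcent
  have hiw' := hinverts w' hw'w' hw'cent
  have hconjinv : ∀ u : ↥(S : Subgroup G), u * u = 1 → u⁻¹ = u := fun u h =>
    inv_eq_of_mul_eq_one_left h
  have hDab : ∀ c ∈ D, ∀ e ∈ D, c * e = e * c := by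
    intro c hc e he
    have h1 := hiX (c * e) (D.mul_mem hc he)
    have h2 : X * (c * e) * X = (X * c * X) * (X * e * X) := by
      calc X * (c * e) * X = X * c * (X * X) * e * X := by rw [hXX]; group
        _ = (X * c * X) * (X * e * X) := by group
    rw [h1, hiX c hc, hiX e he] at h2
    have := congrArg (·⁻¹) h2
    simpa using this
  have hsq : ∀ c ∈ D, c * c = 1 := by
    intro c hc
    have h1 := hiw' c hc
    have h2 : w' * c * w' = w' * c * w'⁻¹ := by rw [hconjinv w' hw'w']
    have h3 : X * w * d * c * (X * w * d)⁻¹ = X * (w * (d * c * d⁻¹) * w⁻¹) * X⁻¹ := by group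
    rw [h2, hw'e, h3, hDab d hdD c hc, mul_inv_cancel_right, hconjinv w hww, hiw c hc,
      hconjinv X hXX, hiX c⁻¹ (D.inv_mem hc), inv_inv] at h1
    rw [← eq_inv_iff_mul_eq_one]
    exact h1
  -- the commutator subgroup lies in the centralizer of `x`
  have hDC : ∀ c ∈ D, (c : G) ∈ S₀ := by
    intro c hc
    refine hC2 _ ?_ (hord c)
    have h1 := hiX c hc
    rw [inv_eq_of_mul_eq_one_left (hsq c hc)] at h1
    have h2 : c * X = X * c := by
      calc c * X = X * c * X * X := by rw [h1]
        _ = X * c * (X * X) := by group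
        _ = X * c := by rw [hXX, mul_one]
    exact congrArg Subtype.val h2
  have hS₀q : ∀ s ∈ S₀, ∀ hs : s ∈ (S : Subgroup G), q ⟨s, hs⟩ = 1 ∨ q ⟨s, hs⟩ = q X := by
    obtain ⟨z, hz, hz1⟩ : ∃ z ∈ D, z ≠ 1 := by
      by_contra! h
      have : Nat.card D = 1 := by
        rw [Subgroup.card_eq_one, Subgroup.eq_bot_iff_forall]; exact h
      rw [this] at hcardS
      exact hSne (by omega)
    have hzS : (z : G) ≠ 1 := fun h => hz1 (Subtype.ext h)
    have hzx : (z : G) ≠ x := fun h => hqX (by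
      rw [show X = z from Subtype.ext h.symm]; exact (hqD z).2 hz)
    intro s hs hsS
    rcases eq_or_ne s 1 with rfl | hs1
    · exact Or.inl (map_one q)
    have hzxne : (z : G) * x ≠ 1 := fun h => hzx ((eq_inv_of_mul_eq_one_left h).trans hinv)
    rcases CfsgLib.Invol.klein_mem_eq (P := S₀) (a := x) (b := (z : G)) (c := (z : G) * x) (d := s)
      hxS₀ (hDC z hz) (S₀.mul_mem (hDC z hz) hxS₀) hs hx1 hzS hzxne hs1 hzx.symm
      (fun h => hzS (mul_eq_right.1 h.symm))
      (fun h => hx1 (mul_eq_left.1 h.symm)) with rfl | rfl | rfl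
    · exact Or.inr rfl
    · exact Or.inl ((hqD _).2 hz)
    · right
      rw [show (⟨(z : G) * x, hsS⟩ : ↥(S : Subgroup G)) = z * X from rfl, map_mul,
        (hqD z).2 hz, one_mul]
  have hdc : X * d = d * X := by
    have := congrArg (fun c : G => c) (Subgroup.mem_centralizer_singleton_iff.1 (hle (hDC d hdD)))
    exact Subtype.ext this.symm
  have hdw : w * d = d * w := by
    have h1 := hiw d hdD
    rw [inv_eq_of_mul_eq_one_left (hsq d hdD)] at h1
    calc w * d = w * d * w * w := by rw [mul_assoc (w * d), hww, mul_one]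
      _ = d * w := by rw [h1]
  have hXw : X * w = w * X := by
    have h1 : (X * w) * (X * w) = 1 := by
      have hd' : d * (X * w) = X * w * d := by
        rw [← mul_assoc, ← hdc, mul_assoc, ← hdw, ← mul_assoc]
      have := hw'w'
      rw [hw'e] at this
      calc X * w * (X * w) = X * w * (X * w) * (d * d) := by rw [hsq d hdD, mul_one]
        _ = X * w * (X * w * d) * d := by group
        _ = X * w * (d * (X * w)) * d := by rw [hd']
        _ = X * w * d * (X * w * d) := by group
        _ = 1 := this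
    have h2 := inv_eq_of_mul_eq_one_left h1
    rw [mul_inv_rev, hconjinv X hXX, hconjinv w hww] at h2
    exact h2.symm
  have hwS₀ : (w : G) ∈ S₀ := hC2 _ (congrArg Subtype.val hXw.symm) (hord w)
  rcases hS₀q _ hwS₀ w.2 with h | h
  · exact hqw h
  · exact hqwX h

end CfsgLib.InvChar.KleinSimple
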